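import Mathlib.RingTheory.Valuation.ValuationRing
import Mathlib.RingTheory.Polynomial.GaussLemma
import Mathlib.RingTheory.DedekindDomain.IntegralClosure
import Mathlib.RingTheory.TensorProduct.Free
import Mathlib.LinearAlgebra.TensorProduct.Basis
import Mathlib.RingTheory.Nilpotent.Lemmas
import Mathlib.RingTheory.Bezout
import Mathlib.RingTheory.Polynomial.RationalRoot
import Mathlib.Algebra.GCDMonoid.IntegrallyClosed

/-!
# Integral elements of `K' ⊗_K L` for a dense extension of valuation rings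
-/

set_option autoImplicit false
open TensorProduct Polynomial

namespace K869.DenseInt

section Field

variable {K L K' : Type*} [Field K] [Field L] [Algebra K L] [Field K'] [Algebra K K']

lemma exists_dual {n : ℕ} {v : Fin n → L} (hv : LinearIndependent K v) (j : Fin n) :
    ∃ g : L →ₗ[K] K, ∀ i, g (v i) = if i = j then 1 else 0 := by
  classical
  obtain ⟨g, hg⟩ := LinearMap.exists_extend ((Finsupp.lapply j : (Fin n →₀ K) →ₗ[K] K) ∘ₗ hv.repr)
  refine ⟨g, fun i => ?_⟩
  have h1 := LinearMap.congr_fun hg ⟨v i, Submodule.subset_span ⟨i, rfl⟩⟩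
  rw [LinearMap.comp_apply] at h1
  refine Eq.trans h1 ?_
  rw [LinearMap.comp_apply]
  have h2 : hv.repr ⟨v i, Submodule.subset_span ⟨i, rfl⟩⟩ = Finsupp.single i 1 := hv.repr_eq_single i _ rfl
  change Finsupp.lapply j (hv.repr ⟨v i, _⟩) = _
  rw [h2, Finsupp.lapply_apply, Finsupp.single_apply]

/-- The minimal polynomial is unchanged under extension of the base field. -/
theorem minpoly_map_dvd [FiniteDimensional K L] (y : L) (Q : K'[X]) (hQ : aeval ((1 : K') ⊗ₜ[K] y) Q = 0) :
    (minpoly K y).map (algebraMap K K') ∣ Q := by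
  classical
  have hint : IsIntegral K y := IsIntegral.of_finite K y
  have hmonic : (minpoly K y).Monic := minpoly.monic hint
  have hmonic' : ((minpoly K y).map (algebraMap K K')).Monic := hmonic.map _
  set F := (minpoly K y).map (algebraMap K K') with hF
  have hFy : aeval ((1 : K') ⊗ₜ[K] y) F = 0 := by
    rw [hF, aeval_map_algebraMap]
    have h1 : ((1 : K') ⊗ₜ[K] y) = (Algebra.TensorProduct.includeRight : L →ₐ[K] K' ⊗[K] L) y := rfl
    rw [h1, aeval_algHom_apply, minpoly.aeval, map_zero]
  rw [← modByMonic_eq_zero_iff_dvd hmonic']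
  set r := Q %ₘ F with hr
  have hry : aeval ((1 : K') ⊗ₜ[K] y) r = 0 := by
    have h1 := modByMonic_add_div Q F
    have h2 := congrArg (aeval ((1 : K') ⊗ₜ[K] y)) h1
    rw [map_add, map_mul, hFy, zero_mul, add_zero, hQ] at h2
    exact h2
  have hn : ∀ i, (minpoly K y).natDegree ≤ i → r.coeff i = 0 := by
    intro i hi
    apply coeff_eq_zero_of_degree_lt
    refine lt_of_lt_of_le (degree_modByMonic_lt Q hmonic') ?_
    rw [degree_eq_natDegree hmonic'.ne_zero, hF, hmonic.natDegree_map]
    exact_mod_cast hi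
  have hdeg : r.natDegree < (minpoly K y).natDegree := by
    by_cases h0 : r = 0
    · rw [h0, natDegree_zero]
      exact minpoly.natDegree_pos hint
    · by_contra hcon
      exact h0 (leadingCoeff_eq_zero.1 (hn _ (not_lt.1 hcon)))
  rw [aeval_eq_sum_range' hdeg] at hry
  ext i
  rw [coeff_zero]
  by_cases hi : (minpoly K y).natDegree ≤ i
  · exact hn i hi
  obtain ⟨g, hg⟩ := exists_dual (linearIndependent_pow (K := K) y) ⟨i, not_le.1 hi⟩
  have h3 := congrArg ((TensorProduct.rid K K').toLinearMap ∘ₗ g.lTensor K') hry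
  rw [map_sum, map_zero] at h3
  rw [← h3, Finset.sum_eq_single i]
  · have h4 := hg ⟨i, not_le.1 hi⟩
    simp only [if_true] at h4
    simp [Algebra.TensorProduct.tmul_pow, TensorProduct.smul_tmul', h4]
  · intro m hm hmi
    have h4 := hg ⟨m, Finset.mem_range.1 hm⟩
    rw [if_neg (by simpa using hmi)] at h4
    simp only at h4
    simp [Algebra.TensorProduct.tmul_pow, TensorProduct.smul_tmul', h4]
  · intro h
    exact absurd (Finset.mem_range.2 (not_le.1 hi)) h

end Field

section Val

variable (A K L A' K' : Type*) [CommRing A] [IsDomain A] [ValuationRing A] [Field K] [Algebra A K] [IsFractionRing A K]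
    [Field L] [Algebra K L] [FiniteDimensional K L] [Algebra A L] [IsScalarTower A K L]
    [CommRing A'] [IsDomain A'] [ValuationRing A'] [Field K'] [Algebra A' K'] [IsFractionRing A' K']
    [Algebra A A'] [IsLocalHom (algebraMap A A')]
    [Algebra K K'] [Algebra A K'] [IsScalarTower A A' K'] [IsScalarTower A K K']

omit [IsDomain A'] [ValuationRing A'] in
/-- `A' ∩ K = A`. -/
lemma mem_range_of_mem [IsDomain A'] (c : K) (a' : A') (h : algebraMap K K' c = algebraMap A' K' a') :
    c ∈ Set.range (algebraMap A K) := by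
  by_cases hc : c = 0
  · exact ⟨0, by rw [map_zero, hc]⟩
  rcases ValuationRing.isInteger_or_isInteger A (K := K) c with ⟨a, ha⟩ | ⟨a, ha⟩
  · exact ⟨a, ha⟩
  · have h1 : algebraMap A A' a * a' = 1 := by
      apply IsFractionRing.injective A' K'
      rw [map_mul, ← h, map_one, ← IsScalarTower.algebraMap_apply, IsScalarTower.algebraMap_apply A K K', ha,
        ← map_mul, inv_mul_cancel₀ hc, map_one]
    have h2 : IsUnit a := isUnit_of_map_unit (algebraMap A A') a (IsUnit.of_mul_eq_one _ h1)
    obtain ⟨u, rfl⟩ := h2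
    refine ⟨(u⁻¹ : Aˣ), ?_⟩
    have h3 : algebraMap A K (u⁻¹ : Aˣ) * algebraMap A K u = 1 := by
      rw [← map_mul, Units.inv_mul, map_one]
    rw [ha] at h3
    field_simp at h3
    exact h3

omit [IsDomain A] [ValuationRing A] [IsFractionRing A K] [IsLocalHom (algebraMap A A')] in
/-- approximation in the fraction field -/
lemma exists_approx (hdense : ∀ a' b' : A', b' ≠ 0 → ∃ a : A, b' ∣ a' - algebraMap A A' a) (c : K') :
    ∃ (d : K) (a' : A'), c = algebraMap A' K' a' + algebraMap K K' d := by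
  obtain ⟨⟨x, y⟩, hxy⟩ := IsLocalization.surj (nonZeroDivisors A') c
  have hy : (y : A') ≠ 0 := nonZeroDivisors.ne_zero y.2
  by_cases hA : ∀ z : A', z ≠ 0 → IsUnit z
  · obtain ⟨z, hz⟩ := (hA y hy).exists_left_inv
    refine ⟨0, z * x, ?_⟩
    rw [map_zero, add_zero, map_mul, ← hxy]
    have : algebraMap A' K' z * algebraMap A' K' y = 1 := by rw [← map_mul, hz, map_one]
    linear_combination (-c) * this
  push Not at hA
  obtain ⟨π, hπ0, hπ⟩ := hA
  obtain ⟨b, m, hb⟩ := hdense y (y * π) (mul_ne_zero hy hπ0)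
  have hb1 : algebraMap A A' b = y * (1 - π * m) := by linear_combination -hb
  have hu : IsUnit (1 - π * m) := by
    rcases IsLocalRing.isUnit_or_isUnit_one_sub_self (π * m) with h | h
    · exact absurd (isUnit_of_mul_isUnit_left h) hπ
    · exact h
  have hb0 : algebraMap A A' b ≠ 0 := by
    rw [hb1]
    exact mul_ne_zero hy hu.ne_zero
  obtain ⟨a, n, ha⟩ := hdense (x * (1 - π * m)) (algebraMap A A' b) hb0
  have hbK : algebraMap A K' b ≠ 0 := by
    rw [IsScalarTower.algebraMap_apply A A' K']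
    exact fun h => hb0 ((IsFractionRing.injective A' K') (by rw [h, map_zero]))
  refine ⟨algebraMap A K a / algebraMap A K b, n, ?_⟩
  rw [map_div₀, ← IsScalarTower.algebraMap_apply, ← IsScalarTower.algebraMap_apply]
  have e1 := congrArg (algebraMap A' K') hb1
  have e2 := congrArg (algebraMap A' K') ha
  have hxy' : c * algebraMap A' K' y = algebraMap A' K' x := hxy
  rw [map_mul, ← IsScalarTower.algebraMap_apply A A' K'] at e1
  rw [map_sub, map_mul, map_mul, ← hxy', ← IsScalarTower.algebraMap_apply A A' K',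
    ← IsScalarTower.algebraMap_apply A A' K'] at e2
  have e3 : c * algebraMap A K' b = algebraMap A K' b * algebraMap A' K' n + algebraMap A K' a := by
    rw [← e2, e1]
    ring
  field_simp
  linear_combination e3

/-- An element of `L` integral over `A'` in `K' ⊗_K L` modulo its nilradical is integral over `A`. -/
theorem isIntegral_of_isIntegralElem (y : L)
    (hy : ((Ideal.Quotient.mk (nilradical (K' ⊗[K] L))).comp
            ((Algebra.TensorProduct.includeLeft : K' →ₐ[K] K' ⊗[K] L).toRingHom.comp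
              (algebraMap A' K'))).IsIntegralElem (Ideal.Quotient.mk (nilradical (K' ⊗[K] L)) (1 ⊗ₜ y))) :
    IsIntegral A y := by
  obtain ⟨P, hP, hPy⟩ := hy
  have hK : IsIntegral K y := IsIntegral.of_finite K y
  have h1 : aeval ((1 : K') ⊗ₜ[K] y) (P.map (algebraMap A' K')) ∈ nilradical (K' ⊗[K] L) := by
    rw [← Ideal.Quotient.eq_zero_iff_mem, aeval_def, eval₂_map, Polynomial.hom_eval₂]
    exact hPy
  obtain ⟨m, hm⟩ := h1
  rw [← map_pow, ← Polynomial.map_pow] at hm
  have h2 := minpoly_map_dvd y _ hm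
  have hic : IsIntegrallyClosed A' := by
    classical
    let _ := IsBezout.toGCDDomain A'
    infer_instance
  obtain ⟨g, hg⟩ := IsIntegrallyClosed.eq_map_mul_C_of_dvd K' (hP.pow m) h2
  have hmonic : ((minpoly K y).map (algebraMap K K')).Monic := (minpoly.monic hK).map _
  rw [hmonic.leadingCoeff, C_1, mul_one] at hg
  have h3 : minpoly K y ∈ lifts (algebraMap A K) := by
    rw [lifts_iff_coeff_lifts]
    intro n
    apply mem_range_of_mem A K A' K' _ (g.coeff n)
    have := congrArg (fun p => p.coeff n) hg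
    simp only [coeff_map] at this
    exact this.symm
  obtain ⟨q, hq, -, hqm⟩ := lifts_and_natDegree_eq_and_monic h3 (minpoly.monic hK)
  refine ⟨q, hqm, ?_⟩
  rw [IsScalarTower.algebraMap_eq A K L, ← eval₂_map, hq]
  exact minpoly.aeval K y

theorem main (hdense : ∀ a' b' : A', b' ≠ 0 → ∃ a : A, b' ∣ a' - algebraMap A A' a)
    (x : (K' ⊗[K] L) ⧸ nilradical (K' ⊗[K] L))
    (hx : ((Ideal.Quotient.mk (nilradical (K' ⊗[K] L))).comp
            ((Algebra.TensorProduct.includeLeft : K' →ₐ[K] K' ⊗[K] L).toRingHom.comp (algebraMap A' K'))).IsIntegralElem x) :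
    ∃ (n : ℕ) (a : Fin n → A') (l : Fin n → L), (∀ i, IsIntegral A (l i)) ∧
      x = Ideal.Quotient.mk (nilradical (K' ⊗[K] L)) (∑ i, algebraMap A' K' (a i) ⊗ₜ[K] l i) := by
  classical
  obtain ⟨s, b, hb⟩ := FiniteDimensional.exists_is_basis_integral A K L
  obtain ⟨t, rfl⟩ := Ideal.Quotient.mk_surjective x
  let B := Algebra.TensorProduct.basis K' b
  have hexp : t = ∑ i, (B.repr t i) ⊗ₜ[K] (b i) := by
    conv_lhs => rw [← B.sum_repr t]
    refine Finset.sum_congr rfl fun i _ => ?_
    rw [Algebra.TensorProduct.basis_apply, TensorProduct.smul_tmul', smul_eq_mul, mul_one]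
  choose d a' hda using exists_approx A K A' K' hdense
  let y : L := ∑ i, d (B.repr t i) • b i
  have ht : t = (∑ i, algebraMap A' K' (a' (B.repr t i)) ⊗ₜ[K] (b i)) + (1 : K') ⊗ₜ[K] y := by
    rw [TensorProduct.tmul_sum, ← Finset.sum_add_distrib]
    conv_lhs => rw [hexp]
    refine Finset.sum_congr rfl fun i _ => ?_
    rw [← TensorProduct.smul_tmul, Algebra.smul_def, mul_one, ← TensorProduct.add_tmul, ← hda]
  let φ := (Ideal.Quotient.mk (nilradical (K' ⊗[K] L))).comp
            ((Algebra.TensorProduct.includeLeft : K' →ₐ[K] K' ⊗[K] L).toRingHom.comp (algebraMap A' K'))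
  have hsum : φ.IsIntegralElem (Ideal.Quotient.mk (nilradical (K' ⊗[K] L))
      (∑ i, algebraMap A' K' (a' (B.repr t i)) ⊗ₜ[K] (b i))) := by
    let ψ : L →+* _ := (Ideal.Quotient.mk (nilradical (K' ⊗[K] L))).comp
      (Algebra.TensorProduct.includeRight : L →ₐ[K] K' ⊗[K] L).toRingHom
    have hφψ : φ.comp (algebraMap A A') = ψ.comp (algebraMap A L) := by
      ext a
      change Ideal.Quotient.mk _ ((algebraMap A' K' (algebraMap A A' a)) ⊗ₜ[K] (1 : L)) =
        Ideal.Quotient.mk _ ((1 : K') ⊗ₜ[K] (algebraMap A L a))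
      rw [← IsScalarTower.algebraMap_apply A A' K', IsScalarTower.algebraMap_apply A K K',
        IsScalarTower.algebraMap_apply A K L, Algebra.algebraMap_eq_smul_one, Algebra.algebraMap_eq_smul_one (A := L),
        TensorProduct.smul_tmul]
    have hψ : ∀ i, φ.IsIntegralElem (ψ (b i)) := by
      intro i
      obtain ⟨p, hp, hpb⟩ := hb i
      refine ⟨p.map (algebraMap A A'), hp.map _, ?_⟩
      rw [eval₂_map, hφψ, ← Polynomial.hom_eval₂, hpb, map_zero]
    let _ : Algebra A' ((K' ⊗[K] L) ⧸ nilradical (K' ⊗[K] L)) := φ.toAlgebra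
    rw [map_sum]
    have h6 : ∀ i ∈ (Finset.univ : Finset s), IsIntegral A' (Ideal.Quotient.mk (nilradical (K' ⊗[K] L))
        (algebraMap A' K' (a' (B.repr t i)) ⊗ₜ[K] (b i))) := by
      intro i _
      have h7 : (algebraMap A' K' (a' (B.repr t i)) ⊗ₜ[K] (b i) : K' ⊗[K] L) =
          (algebraMap A' K' (a' (B.repr t i)) ⊗ₜ[K] (1 : L)) * ((1 : K') ⊗ₜ[K] b i) := by
        rw [Algebra.TensorProduct.tmul_mul_tmul, one_mul, mul_one]
      rw [h7, map_mul]
      exact IsIntegral.mul (isIntegral_algebraMap (R := A') (x := a' (B.repr t i))) (hψ i)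
    exact IsIntegral.sum _ h6
  have hy : IsIntegral A y := by
    apply isIntegral_of_isIntegralElem A K L A' K'
    have h5 : Ideal.Quotient.mk (nilradical (K' ⊗[K] L)) ((1 : K') ⊗ₜ[K] y) =
        Ideal.Quotient.mk _ t - Ideal.Quotient.mk _ (∑ i, algebraMap A' K' (a' (B.repr t i)) ⊗ₜ[K] (b i)) := by
      rw [← map_sub]
      congr 1
      exact eq_sub_of_add_eq' ht.symm
    rw [h5]
    exact hx.sub φ hsum
  refine ⟨s.card + 1, Fin.cons 1 fun j => a' (B.repr t (s.equivFin.symm j)),
    Fin.cons y fun j => b (s.equivFin.symm j), ?_, ?_⟩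
  · intro i
    refine Fin.cases ?_ (fun j => ?_) i
    · exact hy
    · exact hb _
  · congr 1
    rw [Fin.sum_univ_succ]
    simp only [Fin.cons_zero, Fin.cons_succ, map_one]
    rw [add_comm]
    conv_lhs => rw [ht]
    congr 1
    exact (s.equivFin.symm.sum_comp fun i => algebraMap A' K' (a' (B.repr t i)) ⊗ₜ[K] (b i)).symm

end Val

end K869.DenseInt
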